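/-!
Machine-generated: the conjugates of the 2-central involution, as parent and generator.
-/

namespace Cfsg.Agent.M12Type

/-- parent and conjugating generator -/
def orbTree : List (Nat × Nat) :=
  [(0, 0), (0, 1), (0, 2), (1, 0), (1, 1), (1, 2), (2, 0), (2, 1), (2, 2), (3, 0),
    (3, 2), (4, 0), (4, 1), (4, 2), (5, 0), (5, 1), (5, 2), (6, 0), (6, 2), (7, 0),
    (7, 1), (7, 2), (8, 0), (8, 1), (8, 2), (9, 0), (10, 0), (10, 1), (10, 2), (11, 0),
    (11, 2), (12, 0), (12, 1), (12, 2), (13, 0), (13, 1), (13, 2), (14, 0), (14, 2), (15, 0),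
    (15, 2), (16, 0), (16, 1), (16, 2), (17, 0), (18, 0), (18, 1), (18, 2), (19, 0), (19, 2),
    (20, 1), (20, 2), (21, 0), (21, 1), (21, 2), (22, 0), (23, 0), (23, 2), (24, 0), (24, 2),
    (25, 0), (26, 0), (26, 1), (26, 2), (27, 0), (27, 1), (27, 2), (28, 0), (28, 1), (29, 0),
    (29, 2), (30, 0), (30, 2), (31, 0), (32, 0), (32, 2), (33, 0), (33, 1), (33, 2), (34, 0),
    (35, 0), (35, 2), (36, 0), (36, 1), (36, 2), (37, 0), (38, 0), (38, 1), (38, 2), (39, 2),
    (40, 2), (41, 0), (42, 1), (42, 2), (43, 0), (43, 2), (44, 0), (45, 0), (45, 1), (45, 2),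
    (46, 1), (47, 0), (47, 1), (47, 2), (48, 0), (49, 0), (49, 2), (51, 1), (51, 2), (52, 0),
    (52, 2), (53, 2), (54, 2), (55, 0), (56, 0), (56, 1), (56, 2), (57, 2), (58, 0), (59, 0),
    (59, 1), (59, 2), (60, 0), (61, 0), (61, 2), (62, 1), (62, 2), (63, 0), (63, 1), (63, 2),
    (64, 0), (64, 2), (65, 1), (65, 2), (66, 0), (66, 1), (66, 2), (67, 0), (67, 2), (68, 0),
    (68, 2), (69, 0), (69, 1), (70, 0), (70, 1), (70, 2), (71, 0), (71, 2), (72, 1), (72, 2),
    (74, 0), (74, 2), (76, 0), (77, 2), (78, 2), (79, 0), (80, 0), (80, 1), (80, 2), (81, 2),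
    (82, 0), (83, 2), (84, 2), (85, 0), (86, 0), (86, 1), (86, 2), (87, 0), (87, 2), (88, 0),
    (88, 2), (90, 0), (91, 0), (91, 2), (92, 2), (93, 2), (94, 0), (95, 1), (95, 2), (96, 0),
    (97, 0), (97, 1), (97, 2), (98, 2), (99, 0), (99, 1), (101, 0), (101, 1), (102, 0), (102, 2),
    (103, 0), (103, 2), (104, 0), (105, 1), (105, 2), (106, 1), (106, 2), (108, 2), (109, 0), (110, 0),
    (110, 1), (111, 2), (112, 0), (113, 0), (114, 1), (115, 0), (115, 2), (116, 0), (116, 1), (116, 2),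
    (117, 0), (117, 2), (118, 0), (119, 2), (120, 2), (122, 0), (123, 1), (123, 2), (124, 1), (124, 2),
    (125, 0), (126, 1), (126, 2), (127, 0), (127, 2), (128, 0), (128, 2), (129, 0), (130, 0), (131, 0),
    (131, 1), (132, 0), (132, 2), (133, 2), (134, 0), (135, 0), (135, 2), (136, 2), (137, 0), (138, 0),
    (138, 1), (138, 2), (139, 2), (140, 2), (141, 0), (142, 1), (142, 2), (144, 2), (145, 2), (146, 0),
    (149, 2), (150, 0), (151, 1), (152, 0), (153, 0), (154, 0), (156, 1), (156, 2), (158, 0), (158, 2),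
    (159, 0), (160, 2), (161, 1), (161, 2), (164, 2), (165, 1), (166, 2), (167, 2), (168, 2), (169, 0),
    (170, 2), (172, 2), (173, 1), (173, 2), (177, 0), (177, 2), (178, 2), (179, 0), (180, 2), (181, 2),
    (182, 2), (183, 0), (184, 0), (185, 2), (187, 0), (187, 2), (189, 2), (190, 0), (191, 2), (193, 2),
    (194, 2), (195, 0), (196, 2), (197, 0), (198, 0), (199, 0), (199, 1), (199, 2), (200, 0), (200, 1),
    (201, 0), (202, 0), (203, 0), (203, 1), (203, 2), (204, 1), (204, 2), (207, 0), (207, 2), (208, 2),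
    (209, 0), (209, 2), (211, 2), (212, 2), (213, 0), (213, 1), (214, 0), (215, 0), (216, 1), (216, 2),
    (217, 1), (217, 2), (218, 0), (219, 2), (220, 0), (221, 0), (221, 1), (221, 2), (222, 2), (223, 0),
    (224, 0), (224, 1), (225, 2), (226, 2), (228, 2), (229, 0), (229, 2), (230, 0), (230, 1), (231, 0),
    (232, 2), (234, 0), (235, 1), (235, 2), (236, 2), (239, 0), (240, 0), (240, 1), (241, 1), (242, 0),
    (242, 2), (243, 0), (245, 1), (245, 2), (248, 0), (250, 1), (250, 2), (252, 1), (254, 0), (254, 1),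
    (254, 2), (255, 1), (255, 2), (256, 0), (256, 1), (258, 0), (259, 2), (260, 0), (261, 1), (261, 2),
    (262, 2), (264, 2), (267, 0), (270, 0), (272, 0), (273, 0), (274, 0), (274, 2), (276, 0), (277, 0),
    (278, 0), (278, 1), (279, 0), (280, 0), (282, 0), (282, 1), (282, 2), (283, 1), (283, 2), (285, 2),
    (286, 0), (288, 0), (288, 1), (289, 0), (290, 0), (291, 0), (293, 0), (294, 0), (294, 2), (295, 0),
    (295, 1), (296, 2), (297, 0), (297, 2), (299, 1), (299, 2), (301, 0), (302, 2), (303, 1), (304, 1),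
    (304, 2), (305, 0), (306, 1), (308, 1), (308, 2), (309, 2), (316, 0), (318, 0), (318, 1), (320, 0),
    (321, 2), (323, 0), (323, 1), (323, 2), (325, 1), (326, 2), (327, 0), (327, 2), (329, 0), (330, 2),
    (331, 0), (331, 1), (332, 0), (340, 2), (342, 0), (342, 1), (343, 2), (344, 2), (347, 1), (348, 0),
    (349, 1), (350, 2), (351, 2), (353, 0), (354, 0), (354, 2), (356, 0), (356, 2), (360, 0), (360, 1),
    (361, 0), (363, 0), (364, 0), (366, 0), (366, 2), (367, 0), (368, 2), (369, 0), (373, 1), (373, 2),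
    (374, 0), (374, 2), (378, 0), (379, 0), (380, 0), (380, 1), (380, 2), (382, 0), (382, 1), (384, 0),
    (385, 1), (386, 1), (387, 2), (389, 2), (392, 2), (393, 1), (394, 0), (396, 2), (401, 0), (410, 2),
    (414, 1), (414, 2), (415, 0), (421, 0), (429, 0), (430, 2), (431, 1), (432, 1), (436, 1), (444, 0),
    (447, 2), (454, 2), (459, 2), (475, 2)]

end Cfsg.Agent.M12Type
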